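import Cfsg.Agent.Mrg.Omega.KL.TwoS.Ex
import Cfsg.Agent.Mrg.Omega.TC.No
import Cfsg.Agent.Mrg.Omega.NO3S.EMany.LowExt
import Mathlib.GroupTheory.SpecificGroups.Alternating

section


/-!
# From `Out` to the input of THEOREM KL* (`Star.Main.Inp`, helper127 #22903; helper23 #22505)

* `Pre` : the input of THEOREM KL* for an `A` which is exact modulo the kernel; **`Pre.inp`** : `Pre → Inp`;
* **`Fr.pre`** : `Out T V v i X B` gives `Pre` for `C_i` acting on `X`; **`Fr.inp`**, **`Fr.exists_sysE`**.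
-/

set_option autoImplicit false
set_option linter.unusedSectionVars false

namespace Cfsg.Agent.Omega.KL.TwoS

open Subgroup Cfsg Cfsg.Agent.Omega.MinPar
open Cfsg.Agent.ZN (o2 zc)
open Cfsg.Agent.ClassTwoFusion.Quad Cfsg.Agent.Omega.ML.MinFrame
open Cfsg.Agent.Omega.OM.KTwo (CC QQ ne_add_one eq_add_one add_one_add_one le_normalizer_V le_V exists_mul_of_mem_sup)
open Cfsg.Agent.MinSimple.MinParabolic (IsMinPar)
open Cfsg.Agent.Omega.NoFF.Basic (conj_conj mem_conj conj_le_iff comm_symm comm_mono Z_le_V V_le)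
open Cfsg.Agent.Omega.NOThreeL.Pair (conj_eq_of_mem conj_le_normalizer)
open Cfsg.Agent.ZN.ChoiceSit (Syl exists_syl syl_conj o2_le_syl syl_not_dvd)
open Cfsg.Agent.MinSimple.VModule (mem_zc zc_le normalizer_le_normalizer_zc le_o2
  o2_isPGroup o2_le zc_le_centralizer le_centralizer_zc le_normalizer_o2)
open Cfsg.Agent.Omega.TC (NH mem_NH le_normalizer_NH NH_le kgroup_mono)
open Cfsg.Agent.Omega.TC.LemZ (card_eq le_norm_of norm_cent norm_inf)
open Cfsg.Agent.Omega.KL.Quo (norm_lift)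
open Cfsg.Agent.Omega.KL.Star.Main (Inp)
open scoped Pointwise

universe u v

/-- the input of THEOREM KL* (`Star.Main.Inp`) for `C` acting on `M`, with an `A` which is exact modulo the kernel -/
structure Pre {C : Type u} [Group C] {M : Type v} [Group M] [MulDistribMulAction C M] (T A : Subgroup C)
    (Y : Subgroup M) (x : M) : Prop where
  sq : ∀ m : M, m * m = 1
  two : IsPGroup 2 T
  syl : ¬ 2 ∣ T.index
  nx : ∀ g ∈ normalizer (T : Set C), g • x = x
  TY : ∀ t ∈ T, ∀ y ∈ Y, t • y ∈ Y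
  odd : ∀ P : Subgroup C, IsMinPar T P → (∃ p ∈ P, p • x ≠ x) → ∀ g ∈ P, Odd (orderOf g) → ∀ y ∈ Y, g • y = y
  el : ∀ a ∈ A, a * a = 1
  Ax : A ≤ o2 (MulAction.stabilizer C x)
  AY : A ≤ o2 (fxr C Y ⊔ T)
  mv : ¬ A ≤ fxr C (orb (⊤ : Subgroup C) x)
  ker : A ⊓ fxr C (orb (⊤ : Subgroup C) x) ≤ fxr C (⊤ : Subgroup M)
  le : (cv M (A : Set C)).index ≤ (fxr C (orb (⊤ : Subgroup C) x)).relIndex A
  KC : IsKGroup C

section pre

variable {C : Type u} [Group C] [Finite C] {M : Type v} [Group M] [Finite M] [MulDistribMulAction C M]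
  {T A : Subgroup C} {Y : Subgroup M} {x : M}

/-- the elements of odd order lift -/
theorem exists_odd {H : Type*} [Group H] (π : C →* H) {P : Subgroup C} {g : H} (hg : g ∈ P.map π)
    (ho : Odd (orderOf g)) : ∃ c ∈ P, Odd (orderOf c) ∧ π c = g := by
  obtain ⟨c, hc, rfl⟩ := hg
  obtain ⟨k, m, hm, hcm⟩ := Nat.exists_eq_two_pow_mul_odd (n := orderOf c) (orderOf_pos c).ne'
  -- `n ≡ 0 (mod 2^k)`, `n ≡ 1 (mod orderOf (π c))`
  have hcop : Nat.Coprime (2 ^ k) (orderOf (π c)) := Nat.Coprime.pow_left k (Nat.coprime_two_left.2 ho)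
  obtain ⟨n, hn1, hn2⟩ := Nat.chineseRemainder hcop 0 1
  refine ⟨c ^ n, pow_mem hc n, ?_, ?_⟩
  · have h1 : 2 ^ k ∣ n := (Nat.modEq_zero_iff_dvd).1 hn1
    obtain ⟨l, rfl⟩ := h1
    refine Odd.of_dvd_nat hm (orderOf_dvd_of_pow_eq_one ?_)
    rw [← pow_mul, mul_comm (2 ^ k) l, mul_assoc, ← hcm, mul_comm, pow_mul, pow_orderOf_eq_one, one_pow]
  · rw [map_pow]
    conv_rhs => rw [← pow_one (π c)]
    exact pow_eq_pow_iff_modEq.2 hn2

theorem Pre.inp (hML : ML.Final.MLK.{u, v}) (h : Pre T A Y x) :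
    ∃ (H : Type u) (_ : Group H) (_ : Finite H) (_ : MulDistribMulAction H M) (T' A' : Subgroup H),
      Inp T' A' Y x := by
  have htriv : ∀ k ∈ fxr C (⊤ : Subgroup M), ∀ m : M, k • m = m := fun k hk m => hk m (mem_top m)
  have hN : (fxr C (⊤ : Subgroup M)).Normal := fxr_normal fun _ _ _ => mem_top _
  set N := fxr C (⊤ : Subgroup M) with hNdef
  let _ : MulDistribMulAction (C ⧸ N) M := quoAct N htriv
  let π : C →* C ⧸ N := QuotientGroup.mk' N
  have hπ : Function.Surjective π := QuotientGroup.mk'_surjective N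
  have he : ∀ (g : C) (v : M), π g • v = g • v := fun _ _ => rfl
  have hker : ∀ k : C, (∀ v : M, k • v = v) → π k = 1 := fun k hk =>
    (QuotientGroup.eq_one_iff k).2 fun v _ => hk v
  have hker2 : ∀ k : C, π k = 1 → ∀ v : M, k • v = v := fun k hk v =>
    (QuotientGroup.eq_one_iff k).1 hk v (mem_top v)
  -- stabilisers
  have hst : ∀ z : M, (MulAction.stabilizer C z).map π = MulAction.stabilizer (C ⧸ N) z := by
    intro z
    ext g
    constructor
    · rintro ⟨c, hc, rfl⟩
      exact hc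
    · intro hg
      obtain ⟨c, rfl⟩ := hπ g
      exact ⟨c, hg, rfl⟩
  have ho2 : ∀ S : Subgroup C, A ≤ o2 S → A.map π ≤ o2 (S.map π) := by
    intro S hS
    refine (map_mono hS).trans (le_o2 (map_mono (o2_le _)) ((o2_isPGroup _).map π) ?_)
    exact (map_mono (le_normalizer_o2 _)).trans (le_normalizer_map π)
  have hx : A.map π ≤ o2 (MulAction.stabilizer (C ⧸ N) x) := by
    rw [← hst]
    exact ho2 _ h.Ax
  have hfxY : (fxr C Y ⊔ T).map π = fxr (C ⧸ N) Y ⊔ T.map π := by
    rw [Subgroup.map_sup]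
    congr 1
    ext g
    constructor
    · rintro ⟨c, hc, rfl⟩
      exact hc
    · intro hg
      obtain ⟨c, rfl⟩ := hπ g
      exact ⟨c, hg, rfl⟩
  have hy : A.map π ≤ o2 (fxr (C ⧸ N) Y ⊔ T.map π) := by
    rw [← hfxY]
    exact ho2 _ h.AY
  have horb : orb (⊤ : Subgroup (C ⧸ N)) x = orb (⊤ : Subgroup C) x := by
    apply le_antisymm
    · refine orb_le fun g _ => ?_
      obtain ⟨c, rfl⟩ := hπ g
      exact smul_mem_orb_self (g := c) (mem_top _)
    · exact orb_le fun g _ => smul_mem_orb_self (g := π g) (mem_top _)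
  have hfaith : ∀ g : C ⧸ N, (∀ m : M, g • m = m) → g = 1 := by
    intro g hg
    obtain ⟨c, rfl⟩ := hπ g
    exact hker c hg
  have hsyl : ¬ 2 ∣ (T.map π).index := fun h2 => h.syl (h2.trans (index_map_dvd T hπ))
  have hKH : IsKGroup (C ⧸ N) := ML.Final.sec_KG.quo C h.KC N
  have htx : ∀ t ∈ T, t • x = x := fun t ht => h.nx t (le_normalizer ht)
  have hel : ∀ a ∈ A.map π, a * a = 1 := by
    rintro _ ⟨a, ha, rfl⟩
    rw [← map_mul, h.el a ha, map_one]
  -- `A.map π` is faithful on the orbit of `x`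
  have hfx : ∀ B : Subgroup (C ⧸ N), B ≤ A.map π → B ⊓ fxr (C ⧸ N) (orb (⊤ : Subgroup (C ⧸ N)) x) = ⊥ := by
    intro B hB
    rw [Subgroup.eq_bot_iff_forall]
    rintro g ⟨hg, hg2⟩
    obtain ⟨a, ha, rfl⟩ := hB hg
    apply hker a
    have h1 : a ∈ fxr C (⊤ : Subgroup M) := h.ker ⟨ha, by rw [horb] at hg2; exact hg2⟩
    exact fun m => h1 m (mem_top m)
  -- (NO)
  have hno : ∀ B : Subgroup (C ⧸ N), B ≤ A.map π → Nat.card B ≤ (cv M (B : Set (C ⧸ N))).index := by
    intro B hB
    have key := hML (C ⧸ N) M hKH h.sq (T.map π) (o2 (MulAction.stabilizer (C ⧸ N) x)) B x (mem_top _)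
      (h.two.map π) le_top
      (by rwa [relIndex_top_right])
      (by
        rintro _ ⟨t, ht, rfl⟩
        rw [he, htx t ht])
      (o2_isPGroup _) le_top
      (fun q hq => o2_le _ hq)
      (fun g _ hgx q hq => (mem_normalizer_iff.1 (le_normalizer_o2 _
        (show g ∈ MulAction.stabilizer (C ⧸ N) x from hgx)) q).1 hq)
      (hB.trans hx)
      (fun b hb => hel b (hB hb))
      False.elim
    have h1 : (fxr (C ⧸ N) (orb (⊤ : Subgroup (C ⧸ N)) x)).relIndex B = Nat.card B := by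
      rw [← inf_relIndex_left, hfx B hB, relIndex_bot_left]
    rw [h1] at key
    refine key.trans ?_
    rw [← relIndex_top_right (cv M (B : Set (C ⧸ N)))]
    exact relIndex_mono le_top
  -- `A` is exact
  have hcv : cv M (A.map π : Set (C ⧸ N)) = cv M (A : Set C) := by
    ext v
    constructor
    · exact fun hv a ha => hv _ ⟨a, ha, rfl⟩
    · rintro hv _ ⟨a, ha, rfl⟩
      exact hv a ha
  have hcard : Nat.card (A.map π) = N.relIndex A := by
    rw [← relIndex_bot_left, ← relIndex_comap, MonoidHom.comap_bot, QuotientGroup.ker_mk']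
  have hNle : N ≤ fxr C (orb (⊤ : Subgroup C) x) := fun g hg m _ => hg m (mem_top m)
  have hrel : (fxr C (orb (⊤ : Subgroup C) x)).relIndex A ≤ N.relIndex A := relIndex_anti hNle
  have hex : (cv M (A.map π : Set (C ⧸ N))).index = Nat.card (A.map π) := by
    refine le_antisymm ?_ (hno _ le_rfl)
    rw [hcv, hcard]
    exact h.le.trans hrel
  have hA1 : A.map π ≠ ⊥ := by
    intro h1
    apply h.mv
    intro a ha m _
    refine hker2 a ?_ m
    rw [← mem_bot, ← h1]
    exact ⟨a, ha, rfl⟩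
  -- an atom
  obtain ⟨B, ⟨hBA, hB1, hBe⟩, hmin⟩ : ∃ B : Subgroup (C ⧸ N), (B ≤ A.map π ∧ B ≠ ⊥ ∧
      (cv M (B : Set (C ⧸ N))).index = Nat.card B) ∧ ∀ B' : Subgroup (C ⧸ N), (B' ≤ A.map π ∧ B' ≠ ⊥ ∧
      (cv M (B' : Set (C ⧸ N))).index = Nat.card B') → B' ≤ B → B' = B := by
    obtain ⟨B, hB⟩ := (Set.toFinite {B : Subgroup (C ⧸ N) | B ≤ A.map π ∧ B ≠ ⊥ ∧
      (cv M (B : Set (C ⧸ N))).index = Nat.card B}).exists_minimal ⟨A.map π, le_rfl, hA1, hex⟩
    exact ⟨B, hB.prop, fun B' hB' hle => le_antisymm hle (hB.le_of_le hB' hle)⟩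
  refine ⟨C ⧸ N, inferInstance, inferInstance, inferInstance, T.map π, B, ?_⟩
  refine ⟨h.sq, h.two.map π, hsyl, ?_, ?_, ?_, fun a ha => hel a (hBA ha), hBe, ?_, ?_, hBA.trans hx, hBA.trans hy, hKH⟩
  · intro g hg
    obtain ⟨t, ht, n, hn, rfl⟩ := norm_lift π hπ h.two h.syl hg
    rw [he, mul_smul, h.nx n hn, h.nx t (le_normalizer ht)]
  · rintro _ ⟨t, ht, rfl⟩ y hy
    exact h.TY t ht y hy
  · intro P hP hmv g hg hog y hy
    obtain ⟨R, hR, rfl⟩ := Quo.exists_minPar π hπ hP
    obtain ⟨c, hc, hco, rfl⟩ := exists_odd π hg hog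
    exact h.odd R hR (by
      obtain ⟨_, ⟨r, hr, rfl⟩, hrx⟩ := hmv
      exact ⟨r, hr, hrx⟩) c hc hco y hy
  · intro B' hB' hB1' hne
    refine lt_of_le_of_ne (hno B' (hB'.trans hBA)) fun h1 => hne ?_
    exact hmin B' ⟨hB'.trans hBA, hB1', h1.symm⟩ hB'
  · intro hle
    apply hB1
    rw [← hfx B hBA]
    exact (inf_eq_left.2 hle).symm

end pre

/-! ### The action of `C_i` on `X` -/

/-- conjugation -/
abbrev actX {G : Type u} [Group G] {C X : Subgroup G} (h : C ≤ normalizer (X : Set G)) : MulDistribMulAction C X where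
  smul c x := ⟨c * x * (c : G)⁻¹, (mem_normalizer_iff.1 (h c.2) x).1 x.2⟩
  one_smul x := Subtype.ext (by change ((1 : C) : G) * x * ((1 : C) : G)⁻¹ = x; simp)
  mul_smul a b x := Subtype.ext (by
    change ((a * b : C) : G) * x * ((a * b : C) : G)⁻¹ = a * (b * x * (b : G)⁻¹) * (a : G)⁻¹
    push_cast; group)
  smul_mul c x y := Subtype.ext (by
    change (c : G) * ((x * y : X) : G) * (c : G)⁻¹ = (c * x * (c : G)⁻¹) * (c * y * (c : G)⁻¹)
    push_cast; group)
  smul_one c := Subtype.ext (by change (c : G) * ((1 : X) : G) * (c : G)⁻¹ = ((1 : X) : G); simp)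

namespace Fr

variable {G : Type u} [Group G] [Finite G] {T : Subgroup G} {V : Fin 2 → Subgroup G} {v : Fin 2 → G}

theorem pre (D : Fr T V v) {i : Fin 2} {X B : Subgroup G} (hK : IsKGroup (CC v i)) (O : Out T V v i X B) :
    letI := actX O.CX
    Pre (T.subgroupOf (CC v i)) (B.subgroupOf (CC v i)) ((V i).subgroupOf X) (⟨v (i + 1), O.NX (mem_NH v i _)⟩ : X) := by
  let := actX O.CX
  change Pre (T.subgroupOf (CC v i)) (B.subgroupOf (CC v i)) ((V i).subgroupOf X)
    (⟨v (i + 1), O.NX (mem_NH v i _)⟩ : X)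
  have hBC : B ≤ CC v i := O.BO.trans (D.O_le_T.trans (D.T_le_C i))
  have hsm : ∀ (c : CC v i) (m : X), ((c • m : X) : G) = c * m * (c : G)⁻¹ := fun _ _ => rfl
  have hfix : ∀ (c : CC v i) (m : X), c • m = m ↔ (m : G) * c = c * m := by
    intro c m
    rw [Subtype.ext_iff, hsm, mul_inv_eq_iff_eq_mul, eq_comm]
  have hst : ∀ c : CC v i, c ∈ MulAction.stabilizer (CC v i) (⟨v (i + 1), O.NX (mem_NH v i _)⟩ : X) ↔
      (c : G) ∈ centralizer (zc T : Set G) := by
    intro c
    rw [MulAction.mem_stabilizer_iff, hfix]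
    constructor
    · exact fun h => D.mem_D c.2 (mem_centralizer_singleton_iff.2 h.symm)
    · exact fun h => (mem_centralizer_singleton_iff.1 (D.cent_zc_le (i + 1) h)).symm
  have hfxr : ∀ Y : Subgroup G, Y ≤ X → fxr (CC v i) (Y.subgroupOf X) = (centralizer (Y : Set G)).subgroupOf (CC v i) := by
    intro Y hY
    ext c
    rw [mem_subgroupOf, mem_centralizer_iff]
    constructor
    · intro h y hy
      exact (hfix c ⟨y, hY hy⟩).1 (h _ (mem_subgroupOf.2 hy))
    · intro h y hy
      exact (hfix c y).2 (h _ (mem_subgroupOf.1 hy))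
  have hfxt : fxr (CC v i) (⊤ : Subgroup X) = (centralizer (X : Set G)).subgroupOf (CC v i) := by
    rw [← hfxr X le_rfl, subgroupOf_self]
  have horb : orb (⊤ : Subgroup (CC v i)) (⟨v (i + 1), O.NX (mem_NH v i _)⟩ : X) = (NN v i).subgroupOf X := by
    apply le_antisymm
    · refine orb_le fun g _ => mem_subgroupOf.2 ?_
      rw [hsm]
      exact (mem_normalizer_iff.1 (le_normalizer_NH v i (CC v i) g.2) _).1 (mem_NH v i _)
    · set U : Subgroup G := (orb (⊤ : Subgroup (CC v i)) (⟨v (i + 1), O.NX (mem_NH v i _)⟩ : X)).map X.subtype with hU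
      have h1 : NN v i ≤ U := by
        refine NH_le ⟨_, mem_orb_self _ _, rfl⟩ (le_norm_of fun g hg a ha => ?_)
        obtain ⟨b, hb, rfl⟩ := ha
        exact ⟨_, smul_mem_orb (g := (⟨g, hg⟩ : CC v i)) (mem_top _) hb, rfl⟩
      intro m hm
      obtain ⟨b, hb, hbm⟩ := h1 (mem_subgroupOf.1 hm)
      rw [← (Subtype.ext hbm : b = m)]
      exact hb
  refine ⟨?_, ?_, ?_, ?_, ?_, ?_, ?_, ?_, ?_, ?_, ?_, ?_, hK⟩
  · intro m
    apply Subtype.ext
    have h := O.sqX m m.2
    rw [pow_two] at h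
    exact h
  · exact D.T_isPGroup.comap_of_injective (CC v i).subtype (CC v i).subtype_injective
  · exact syl_not_dvd (D.syl i)
  · intro g hg
    refine MulAction.mem_stabilizer_iff.1 ((hst g).2 (D.nT i (mem_inf.2 ⟨g.2, ?_⟩)))
    rw [mem_normalizer_iff]
    intro t
    constructor
    · intro ht
      exact (mem_normalizer_iff.1 hg ⟨t, D.T_le_C i ht⟩).1 ht
    · intro ht
      have h1 : (g : G)⁻¹ * ((g : G) * t * (g : G)⁻¹) * (g : G)⁻¹⁻¹ ∈ T :=
        (mem_normalizer_iff.1 (inv_mem hg) ⟨(g : G) * t * (g : G)⁻¹, D.T_le_C i ht⟩).1 ht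
      have e : (g : G)⁻¹ * ((g : G) * t * (g : G)⁻¹) * (g : G)⁻¹⁻¹ = t := by group
      rwa [e] at h1
  · intro t ht y hy
    refine mem_subgroupOf.2 ?_
    rw [hsm]
    exact (mem_normalizer_iff.1 (D.nV i (mem_subgroupOf.1 ht)) _).1 (mem_subgroupOf.1 hy)
  · intro P hP hmv g hg hog y hy
    have hR := Plug.minPar_map (D.T_le_C i) hP
    have hRC : P.map (CC v i).subtype ≤ CC v i := map_subtype_le P
    have hRm : ¬ P.map (CC v i).subtype ≤ CC v (i + 1) := by
      intro h
      obtain ⟨p, hp, hpx⟩ := hmv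
      apply hpx
      rw [hfix]
      exact (mem_centralizer_singleton_iff.1 (h (mem_map_of_mem (CC v i).subtype hp))).symm
    have h1 := D.odd (i + 1) i (ne_add_one i).symm _ hR hRC hRm g (mem_map_of_mem (CC v i).subtype hg)
      (by rwa [orderOf_coe])
    rw [hfix]
    exact mem_centralizer_iff.1 h1 y (mem_subgroupOf.1 hy)
  · intro a ha
    apply Subtype.ext
    have h := O.sqB a (mem_subgroupOf.1 ha)
    rw [pow_two] at h
    exact h
  · exact Plug.sub_o2 hst O.BO
  · refine Plug.sub_o2 (S := HH T V i) (fun c => ?_) O.BH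
    rw [hfxr (V i) O.VX, ← subgroupOf_sup (D.cent_V_le i) (D.T_le_C i), mem_subgroupOf]
  · rw [horb, hfxr _ O.NX]
    intro h
    apply O.mv
    intro b hb
    exact mem_subgroupOf.1 (h (mem_subgroupOf.2 hb : (⟨b, hBC hb⟩ : CC v i) ∈ B.subgroupOf (CC v i)))
  · rw [horb, hfxr _ O.NX, hfxt]
    rintro c ⟨h1, h2⟩
    exact mem_subgroupOf.2 (O.ker ⟨mem_subgroupOf.1 h1, mem_subgroupOf.1 h2⟩)
  · rw [horb, hfxr _ O.NX, relIndex_subgroupOf hBC]
    refine le_trans (index_antitone ?_) O.ex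
    intro m hm a ha
    rw [hfix]
    exact (mem_centralizer_iff.1 (mem_subgroupOf.1 hm) a (mem_subgroupOf.1 ha)).symm

/-- **the input of THEOREM KL*** -/
theorem inp (hML : ML.Final.MLK.{u, u}) (D : Fr T V v) {i : Fin 2} {X B : Subgroup G} (hK : IsKGroup (CC v i))
    (O : Out T V v i X B) :
    ∃ (H M : Type u) (_ : Group H) (_ : Finite H) (_ : Group M) (_ : Finite M) (_ : MulDistribMulAction H M)
      (T' A' : Subgroup H) (Y : Subgroup M) (x : M), Inp T' A' Y x := by
  let := actX O.CX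
  obtain ⟨H, _, _, _, T', A', h⟩ := (D.pre hK O).inp hML
  exact ⟨H, X, inferInstance, inferInstance, inferInstance, inferInstance, inferInstance, T', A', _, _, h⟩

open Cfsg.Agent.Omega.NO3S.EMany.Low in
/-- **EX + KL*** -/
theorem exists_sysE (hML : ML.Final.MLK.{u, u}) (D : Fr T V v) {i : Fin 2} {X B : Subgroup G} (hK : IsKGroup (CC v i))
    (O : Out T V v i X B) :
    ∃ (H' : Type u) (_ : Group H') (_ : Finite H') (N : Type u) (_ : Group N) (_ : Finite N)
      (_ : MulDistribMulAction H' N) (T' A' : Subgroup H') (x' y' : N), SysE T' A' x' y' := by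
  obtain ⟨H, M, _, _, _, _, _, T', A', Y, x, h⟩ := inp hML D hK O
  exact h.exists_sysE hML

end Fr

end Cfsg.Agent.Omega.KL.TwoS

end

section


/-!
# A block `S_n`, `n ≥ 5` odd: `J(O)` centralises it (helper23 #22505 (e))

`V = {φ s : s ⊆ Ω even}`, `R` acts on `V` as `Sym(Ω)`, `v = φ (Ω - ∞)`.

* `Lett V R φ` : this situation; `Rel φ g σ` : `g` acts on `V` as `σ`;
* `Lett.semi` : `O` a 2-group normalised by `C_R(v)`, `O ≤ C_R(v)`: an element of `O` which fixes a letter `≠ ∞`
  centralises `V`;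
* **`Lett.cent`** : then an offender `A ≤ O` on `V` centralises `V`;
* **`Fr.cent_of`**, **`Fr.sysE_of`** : for the frame of two centres: if one `V i` is of this kind, then the second
  alternative of `Fr.ex` is impossible.
-/

set_option autoImplicit false
set_option linter.unusedSectionVars false

namespace Cfsg.Agent.Omega.KL.TwoS

open Subgroup Cfsg Cfsg.Agent.Omega.MinPar
open Cfsg.Agent.ZN (o2 zc)
open Cfsg.Agent.Omega.OM.KTwo (CC QQ ne_add_one eq_add_one add_one_add_one le_normalizer_V le_V exists_mul_of_mem_sup)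
open Cfsg.Agent.MinSimple.MinParabolic (IsMinPar)
open Cfsg.Agent.Omega.NoFF.Basic (conj_conj mem_conj conj_le_iff comm_symm comm_mono Z_le_V V_le)
open Cfsg.Agent.MinSimple.VModule (le_o2 o2_isPGroup o2_le le_normalizer_o2)
open scoped Pointwise

universe u w

variable {G : Type u} [Group G] {Ω : Type w} [Fintype Ω] [DecidableEq Ω]

/-- `g` acts on the even sets as `σ` -/
def Rel (φ : Finset Ω → G) (g : G) (σ : Equiv.Perm Ω) : Prop :=
  ∀ s : Finset Ω, Even s.card → g * φ s * g⁻¹ = φ (s.map σ.toEmbedding)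

/-- `V` is the group of the even subsets of `Ω`, `R` acts on it as `Sym(Ω)` -/
structure Lett (V R : Subgroup G) (φ : Finset Ω → G) : Prop where
  odd : Odd (Fintype.card Ω)
  mul : ∀ s t : Finset Ω, φ (symmDiff s t) = φ s * φ t
  inj : ∀ s : Finset Ω, Even s.card → φ s = 1 → s = ∅
  mem : ∀ x : G, x ∈ V ↔ ∃ s : Finset Ω, Even s.card ∧ φ s = x
  act : ∀ g ∈ R, ∃ σ : Equiv.Perm Ω, Rel φ g σ
  all : ∀ σ : Equiv.Perm Ω, ∃ g ∈ R, Rel φ g σ

theorem even_symmDiff {s t : Finset Ω} (hs : Even s.card) (ht : Even t.card) : Even (symmDiff s t).card := by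
  have h1 : (symmDiff s t).card + 2 * (s ∩ t).card = s.card + t.card := by
    have e : symmDiff s t = (s \ t) ∪ (t \ s) := rfl
    have hd : Disjoint (s \ t) (t \ s) := by
      rw [Finset.disjoint_left]
      intro x hx hx'
      exact (Finset.mem_sdiff.1 hx).2 (Finset.mem_sdiff.1 hx').1
    rw [e, Finset.card_union_of_disjoint hd]
    have h2 := Finset.card_sdiff_add_card_inter s t
    have h3 := Finset.card_sdiff_add_card_inter t s
    rw [Finset.inter_comm t s] at h3
    omega
  have h2 : Even ((symmDiff s t).card + 2 * (s ∩ t).card) := by rw [h1]; exact hs.add ht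
  rw [Nat.even_add] at h2
  exact h2.2 (even_two_mul _)

namespace Rel

variable {φ : Finset Ω → G} {g h : G} {σ τ : Equiv.Perm Ω}

theorem mul (hg : Rel φ g σ) (hh : Rel φ h τ) : Rel φ (g * h) (σ * τ) := by
  intro s hs
  have h1 := hh s hs
  have h2 := hg (s.map τ.toEmbedding) (by rwa [Finset.card_map])
  have e : g * h * φ s * (g * h)⁻¹ = g * (h * φ s * h⁻¹) * g⁻¹ := by group
  rw [e, h1, h2, Finset.map_map]
  rfl

theorem inv (hg : Rel φ g σ) : Rel φ g⁻¹ σ⁻¹ := by
  intro s hs
  have h2 := hg (s.map (σ⁻¹).toEmbedding) (by rwa [Finset.card_map])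
  rw [Finset.map_map] at h2
  have e : (σ⁻¹).toEmbedding.trans σ.toEmbedding = Function.Embedding.refl Ω := by
    ext x
    simp
  rw [e, Finset.map_refl] at h2
  rw [← h2]
  group

theorem one : Rel φ 1 (1 : Equiv.Perm Ω) := by
  intro s _
  have e : (1 : Equiv.Perm Ω).toEmbedding = Function.Embedding.refl Ω := by
    ext x
    simp
  rw [e, Finset.map_refl]
  group

theorem pow (hg : Rel φ g σ) (n : ℕ) : Rel φ (g ^ n) (σ ^ n) := by
  induction n with
  | zero => rw [pow_zero, pow_zero]; exact one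
  | succ n ih => rw [pow_succ, pow_succ]; exact ih.mul hg

end Rel

namespace Lett

variable {V R : Subgroup G} {φ : Finset Ω → G} (L : Lett V R φ)

include L

theorem phi_empty : φ ∅ = 1 := by
  have h := L.mul ∅ ∅
  rw [symmDiff_self, Finset.bot_eq_empty] at h
  exact mul_eq_left.1 h.symm

theorem phi_sq (s : Finset Ω) : φ s * φ s = 1 := by
  rw [← L.mul, symmDiff_self, Finset.bot_eq_empty, L.phi_empty]

theorem phi_inj {s t : Finset Ω} (hs : Even s.card) (ht : Even t.card) (h : φ s = φ t) : s = t := by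
  have h1 : φ (symmDiff s t) = 1 := by rw [L.mul, ← h, L.phi_sq]
  have h2 := L.inj _ (even_symmDiff hs ht) h1
  rwa [← Finset.bot_eq_empty, symmDiff_eq_bot] at h2

theorem phi_inv (s : Finset Ω) : (φ s)⁻¹ = φ s := inv_eq_of_mul_eq_one_right (L.phi_sq s)

theorem pair {g : G} {σ : Equiv.Perm Ω} (h : Rel φ g σ) {a b : Ω} (hab : a ≠ b) :
    g * φ {a, b} * g⁻¹ = φ {σ a, σ b} := by
  rw [h _ (by rw [Finset.card_pair hab]; exact even_two)]
  congr 1
  ext x
  simp

theorem unique (h3 : 3 ≤ Fintype.card Ω) {g : G} {σ τ : Equiv.Perm Ω} (h : Rel φ g σ) (h' : Rel φ g τ) : σ = τ := by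
  ext a
  obtain ⟨b, hb⟩ : ∃ b, b ≠ a := Fintype.exists_ne_of_one_lt_card (by omega) a
  obtain ⟨c, hc⟩ : ∃ c, c ∉ ({a, b} : Finset Ω) := by
    by_contra hcon
    push Not at hcon
    have h1 : (Finset.univ : Finset Ω) ⊆ {a, b} := fun x _ => hcon x
    have h2 := Finset.card_le_card h1
    rw [Finset.card_univ] at h2
    have h4 : ({a, b} : Finset Ω).card ≤ 2 := Finset.card_le_two
    omega
  rw [Finset.mem_insert, Finset.mem_singleton, not_or] at hc
  have e1 : ({σ a, σ b} : Finset Ω) = {τ a, τ b} := by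
    refine L.phi_inj ?_ ?_ (by rw [← L.pair h hb.symm, ← L.pair h' hb.symm])
    · rw [Finset.card_pair (σ.injective.ne hb.symm)]; exact even_two
    · rw [Finset.card_pair (τ.injective.ne hb.symm)]; exact even_two
  have e2 : ({σ a, σ c} : Finset Ω) = {τ a, τ c} := by
    refine L.phi_inj ?_ ?_ (by rw [← L.pair h (Ne.symm hc.1), ← L.pair h' (Ne.symm hc.1)])
    · rw [Finset.card_pair (σ.injective.ne (Ne.symm hc.1))]; exact even_two
    · rw [Finset.card_pair (τ.injective.ne (Ne.symm hc.1))]; exact even_two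
  have m1 : σ a ∈ ({τ a, τ b} : Finset Ω) := by rw [← e1]; simp
  have m2 : σ a ∈ ({τ a, τ c} : Finset Ω) := by rw [← e2]; simp
  rw [Finset.mem_insert, Finset.mem_singleton] at m1 m2
  rcases m1 with m1 | m1
  · exact m1
  · rcases m2 with m2 | m2
    · exact m2
    · exact absurd (τ.injective (m1.symm.trans m2)) (Ne.symm hc.2)

theorem cent_of_one {g : G} (h : Rel φ g 1) : g ∈ centralizer (V : Set G) := by
  rw [mem_centralizer_iff]
  intro x hx
  obtain ⟨s, hs, rfl⟩ := (L.mem x).1 hx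
  have h1 := h s hs
  have e : (1 : Equiv.Perm Ω).toEmbedding = Function.Embedding.refl Ω := by
    ext x
    simp
  rw [e, Finset.map_refl, mul_inv_eq_iff_eq_mul] at h1
  exact h1.symm

theorem even_erase (p : Ω) : Even (Finset.univ.erase p).card := by
  rw [Finset.card_erase_of_mem (Finset.mem_univ p), Finset.card_univ]
  exact Nat.Odd.sub_odd L.odd odd_one

theorem fix_iff {g : G} {σ : Equiv.Perm Ω} (h : Rel φ g σ) (p : Ω) :
    g * φ (Finset.univ.erase p) * g⁻¹ = φ (Finset.univ.erase p) ↔ σ p = p := by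
  have e : (Finset.univ.erase p).map σ.toEmbedding = Finset.univ.erase (σ p) := by
    rw [Finset.map_erase, Finset.map_univ_equiv]
    rfl
  rw [h _ (L.even_erase p), e]
  constructor
  · intro h1
    have h2 := L.phi_inj (L.even_erase _) (L.even_erase _) h1
    by_contra hne
    have h3 : σ p ∈ Finset.univ.erase p := Finset.mem_erase.2 ⟨hne, Finset.mem_univ _⟩
    rw [← h2] at h3
    exact (Finset.mem_erase.1 h3).1 rfl
  · intro h1
    rw [h1]

variable {O : Subgroup G} {p : Ω}

/-- an element of `O` which fixes a letter `≠ p` centralises `V` -/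
theorem semi (h3 : 3 ≤ Fintype.card Ω) (hO2 : IsPGroup 2 O)
    (hOv : O ≤ centralizer ({φ (Finset.univ.erase p)} : Set G))
    (hn : ∀ g ∈ R, g ∈ centralizer ({φ (Finset.univ.erase p)} : Set G) → g ∈ normalizer (O : Set G))
    {g : G} (hg : g ∈ O) {σ : Equiv.Perm Ω} (hσ : Rel φ g σ) {c : Ω} (hc : c ≠ p) (hσc : σ c = c) : σ = 1 := by
  by_contra hne
  obtain ⟨b, hb⟩ : ∃ b, σ b ≠ b := by
    by_contra hcon
    push Not at hcon
    exact hne (Equiv.ext fun x => by rw [hcon x]; rfl)
  have hσp : σ p = p := by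
    rw [← L.fix_iff hσ]
    rw [mem_centralizer_singleton_iff.1 (hOv hg), mul_inv_cancel_right]
  have hbp : b ≠ p := fun h => hb (by rw [h, hσp])
  have hbc : b ≠ c := fun h => hb (by rw [h, hσc])
  have hσbc : σ b ≠ c := fun h => hbc (σ.injective (h.trans hσc.symm))
  obtain ⟨k, hkR, hk⟩ := L.all (Equiv.swap b c)
  have hkp : Equiv.swap b c p = p := Equiv.swap_apply_of_ne_of_ne (Ne.symm hbp) (Ne.symm hc)
  have hkv : k ∈ centralizer ({φ (Finset.univ.erase p)} : Set G) := by
    rw [mem_centralizer_singleton_iff]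
    have h1 := (L.fix_iff hk p).2 hkp
    rwa [mul_inv_eq_iff_eq_mul] at h1
  have hkn := hn k hkR hkv
  have hm : k * g * k⁻¹ * g⁻¹ ∈ O := mul_mem ((mem_normalizer_iff.1 hkn g).1 hg) (inv_mem hg)
  have hrel : Rel φ (k * g * k⁻¹ * g⁻¹) (Equiv.swap b c * σ * (Equiv.swap b c)⁻¹ * σ⁻¹) :=
    ((hk.mul hσ).mul hk.inv).mul hσ.inv
  have e : Equiv.swap b c * σ * (Equiv.swap b c)⁻¹ * σ⁻¹ = Equiv.swap c b * Equiv.swap c (σ b) := by
    have h1 : σ * (Equiv.swap b c)⁻¹ * σ⁻¹ = Equiv.swap (σ b) (σ c) := by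
      rw [Equiv.swap_inv]
      exact (Equiv.swap_apply_apply σ b c).symm
    calc Equiv.swap b c * σ * (Equiv.swap b c)⁻¹ * σ⁻¹ = Equiv.swap b c * (σ * (Equiv.swap b c)⁻¹ * σ⁻¹) := by group
      _ = Equiv.swap c b * Equiv.swap c (σ b) := by rw [h1, hσc, Equiv.swap_comm b c, Equiv.swap_comm (σ b) c]
  rw [e] at hrel
  obtain ⟨n, hn2⟩ := hO2 ⟨_, hm⟩
  have h4 : (k * g * k⁻¹ * g⁻¹) ^ 2 ^ n = 1 := by
    have := congrArg Subtype.val hn2
    simpa using this
  have h5 := hrel.pow (2 ^ n)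
  rw [h4] at h5
  have h6 := L.unique h3 h5 Rel.one
  have h7 : (Equiv.swap c b * Equiv.swap c (σ b)).IsThreeCycle :=
    Equiv.Perm.isThreeCycle_swap_mul_swap_same (Ne.symm hbc) (Ne.symm hσbc) (Ne.symm hb)
  have h8 := orderOf_dvd_of_pow_eq_one h6
  rw [h7.orderOf] at h8
  have h9 := Nat.Prime.dvd_of_dvd_pow Nat.prime_three h8
  omega

/-- **an offender `A ≤ O` centralises `V`** -/
theorem cent [Finite G] (h4 : 4 ≤ Fintype.card Ω) (hO2 : IsPGroup 2 O) (hOR : O ≤ R)
    (hOv : O ≤ centralizer ({φ (Finset.univ.erase p)} : Set G))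
    (hn : ∀ g ∈ R, g ∈ centralizer ({φ (Finset.univ.erase p)} : Set G) → g ∈ normalizer (O : Set G))
    {A : Subgroup G} (hA : A ≤ O)
    (hle : (centralizer (A : Set G)).relIndex V ≤ (centralizer (V : Set G)).relIndex A) :
    A ≤ centralizer (V : Set G) := by
  classical
  have : Fintype A := Fintype.ofFinite A
  by_contra hmv
  have hσ : ∀ a : A, ∃ σ : Equiv.Perm Ω, Rel φ a σ := fun a => L.act a (hOR (hA a.2))
  choose f hf using hσ
  have hsemi : ∀ (a : A) (c : Ω), c ≠ p → f a c = c → f a = 1 := fun a c hc h =>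
    L.semi (by omega) hO2 hOv hn (hA a.2) (hf a) hc h
  have hfp : ∀ a : A, f a p = p := by
    intro a
    rw [← L.fix_iff (hf a), mem_centralizer_singleton_iff.1 (hOv (hA a.2)), mul_inv_cancel_right]
  have hfmul : ∀ a b : A, f (a * b) = f a * f b := fun a b =>
    L.unique (by omega) (hf (a * b)) ((hf a).mul (hf b))
  have hfinv : ∀ a : A, f a⁻¹ = (f a)⁻¹ := fun a => L.unique (by omega) (hf a⁻¹) (hf a).inv
  obtain ⟨a0, ha0, hma0⟩ := SetLike.not_le_iff_exists.1 hmv
  have hmove : ∀ c : Ω, c ≠ p → f ⟨a0, ha0⟩ c ≠ c := by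
    intro c hc h
    apply hma0
    have h1 := hsemi ⟨a0, ha0⟩ c hc h
    have h2 := hf ⟨a0, ha0⟩
    rw [h1] at h2
    exact L.cent_of_one h2
  obtain ⟨b, hb⟩ : ∃ b, b ≠ p := Fintype.exists_ne_of_one_lt_card (by omega) p
  -- the orbit of `b`
  set orb : Finset Ω := Finset.univ.image fun a : A => f a b with horb
  have hborb : b ∈ orb := by
    refine Finset.mem_image.2 ⟨1, Finset.mem_univ _, ?_⟩
    have h1 : f 1 = 1 := L.unique (by omega) (hf 1) Rel.one
    rw [h1]
    rfl
  have horbp : ∀ c ∈ orb, c ≠ p := by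
    intro c hc
    obtain ⟨a, -, rfl⟩ := Finset.mem_image.1 hc
    intro h
    apply hb
    apply (f a).injective
    rw [h, hfp]
  -- `|A : C_A(V)| ≤ |orb|`
  have hupper : (centralizer (V : Set G)).relIndex A ≤ orb.card := by
    have hinj : Function.Injective fun q : A ⧸ (centralizer (V : Set G)).subgroupOf A =>
        (⟨f q.out b, Finset.mem_image.2 ⟨q.out, Finset.mem_univ _, rfl⟩⟩ : orb) := by
      intro q q' h
      have h1 : f q.out b = f q'.out b := congrArg Subtype.val h
      have h2 : f (q.out⁻¹ * q'.out) = 1 := by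
        refine hsemi _ b hb ?_
        rw [hfmul, hfinv]
        change (f q.out)⁻¹ (f q'.out b) = b
        rw [← h1]
        simp
      have h3 : q.out⁻¹ * q'.out ∈ (centralizer (V : Set G)).subgroupOf A := by
        rw [mem_subgroupOf]
        have h4 := hf (q.out⁻¹ * q'.out)
        rw [h2] at h4
        exact L.cent_of_one h4
      rw [← QuotientGroup.out_eq' q, ← QuotientGroup.out_eq' q']
      exact QuotientGroup.eq.2 h3
    have h1 := Nat.card_le_card_of_injective _ hinj
    rw [Nat.card_eq_fintype_card (α := orb), Fintype.card_coe] at h1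
    exact h1
  -- a set `S` of letters with `|V : C_V(A)| ≥ |S| + 1`
  have hlower : ∀ S : Finset Ω, (∀ c ∈ S, c ≠ p) →
      (∀ c ∈ S, ∀ d ∈ S, c ≠ d → ∃ a : A, ({f a c, f a d} : Finset Ω) ≠ {c, d}) →
      S.card + 1 ≤ (centralizer (A : Set G)).relIndex V := by
    intro S hS hS2
    have hev : ∀ c d : Ω, c ≠ d → Even ({c, d} : Finset Ω).card := fun c d h => by
      rw [Finset.card_pair h]; exact even_two
    have hVm : ∀ c : S, φ {(c : Ω), p} ∈ V := fun c => (L.mem _).2 ⟨_, hev _ _ (hS c c.2), rfl⟩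
    let F : Option S → V ⧸ (centralizer (A : Set G)).subgroupOf V := fun o =>
      o.elim ((1 : V) : V ⧸ (centralizer (A : Set G)).subgroupOf V)
        fun c => ((⟨φ {(c : Ω), p}, hVm c⟩ : V) : V ⧸ (centralizer (A : Set G)).subgroupOf V)
    have hmem : ∀ {c d : Ω}, c ≠ d → φ {c, d} ∈ centralizer (A : Set G) → ∀ a : A,
        ({f a c, f a d} : Finset Ω) = {c, d} := by
      intro c d hcd h a
      have h1 := mem_centralizer_iff.1 h a a.2
      have h2 := L.pair (hf a) hcd
      rw [h1, mul_inv_cancel_right] at h2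
      exact (L.phi_inj (hev _ _ hcd) (hev _ _ ((f a).injective.ne hcd)) h2).symm
    have hnp : ∀ c : S, φ {(c : Ω), p} ∉ centralizer (A : Set G) := by
      intro c hc
      have h1 := hmem (hS c c.2) hc ⟨a0, ha0⟩
      rw [hfp] at h1
      have h2 : f ⟨a0, ha0⟩ c ∈ ({(c : Ω), p} : Finset Ω) := by rw [← h1]; simp
      rw [Finset.mem_insert, Finset.mem_singleton] at h2
      rcases h2 with h2 | h2
      · exact hmove c (hS c c.2) h2
      · exact hS c c.2 ((f ⟨a0, ha0⟩).injective (h2.trans (hfp _).symm))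
    have hF : Function.Injective F := by
      rintro (_ | c) (_ | d) h
      · rfl
      · exfalso
        have h1 := QuotientGroup.eq.1 h
        rw [inv_one, one_mul, mem_subgroupOf] at h1
        exact hnp d h1
      · exfalso
        have h1 := QuotientGroup.eq.1 h
        rw [mul_one, mem_subgroupOf] at h1
        exact hnp c (by simpa using inv_mem h1)
      · congr 1
        by_contra hcd
        have hcd' : (c : Ω) ≠ d := fun h => hcd (Subtype.ext h)
        have h1 := QuotientGroup.eq.1 h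
        rw [mem_subgroupOf] at h1
        have h2 : φ {(c : Ω), (d : Ω)} ∈ centralizer (A : Set G) := by
          have e : φ {(c : Ω), (d : Ω)} = (φ {(c : Ω), p})⁻¹ * φ {(d : Ω), p} := by
            rw [L.phi_inv, ← L.mul]
            congr 1
            ext x
            have hc := hS c c.2
            have hd := hS d d.2
            rw [Finset.mem_symmDiff]
            simp only [Finset.mem_insert, Finset.mem_singleton]
            constructor
            · rintro (rfl | rfl)
              · left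
                exact ⟨Or.inl rfl, fun h => h.elim hcd' hc⟩
              · right
                exact ⟨Or.inl rfl, fun h => h.elim (fun h => hcd' h.symm) hd⟩
            · rintro (⟨h | h, h'⟩ | ⟨h | h, h'⟩)
              · exact Or.inl h
              · exact absurd (Or.inr h) h'
              · exact Or.inr h
              · exact absurd (Or.inr h) h'
          rw [e]
          exact h1
        obtain ⟨a, ha⟩ := hS2 c c.2 d d.2 hcd'
        exact ha (hmem hcd' h2 a)
    have h1 := Nat.card_le_card_of_injective F hF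
    rw [Nat.card_eq_fintype_card (α := Option S), Fintype.card_option, Fintype.card_coe] at h1
    exact h1
  by_cases hc3 : 3 ≤ orb.card
  · -- `S = orb`
    have h1 := hlower orb horbp ?_
    · omega
    · intro c hc d hd hcd
      by_contra hcon
      push Not at hcon
      have h2 : orb ⊆ {c, d} := by
        intro e he
        obtain ⟨a, -, rfl⟩ := Finset.mem_image.1 hc
        obtain ⟨a', -, rfl⟩ := Finset.mem_image.1 he
        have h3 := hcon (a' * a⁻¹)
        have h4 : f a' b = f (a' * a⁻¹) (f a b) := by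
          rw [hfmul, hfinv]
          simp
        rw [← h3]
        change f a' b ∈ _
        rw [h4]
        exact Finset.mem_insert_self _ _
      have h3 := Finset.card_le_card h2
      have h5 : ({c, d} : Finset Ω).card ≤ 2 := Finset.card_le_two
      omega
  · -- `orb = {b, b'}`
    obtain ⟨c, hc⟩ : ∃ c, c ∉ insert p orb := by
      by_contra hcon
      push Not at hcon
      have h1 : (Finset.univ : Finset Ω) ⊆ insert p orb := fun x _ => hcon x
      have h2 := Finset.card_le_card h1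
      rw [Finset.card_univ] at h2
      have h5 := Finset.card_insert_le p orb
      omega
    rw [Finset.mem_insert, not_or] at hc
    have hbc : b ≠ c := fun h => hc.2 (h ▸ hborb)
    have h1 := hlower {b, c} ?_ ?_
    · rw [Finset.card_pair hbc] at h1
      omega
    · intro x hx
      rw [Finset.mem_insert, Finset.mem_singleton] at hx
      rcases hx with rfl | rfl
      · exact hb
      · exact hc.1
    · have key : ({f ⟨a0, ha0⟩ b, f ⟨a0, ha0⟩ c} : Finset Ω) ≠ {b, c} := by
        intro h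
        have h2 : f ⟨a0, ha0⟩ b ∈ ({b, c} : Finset Ω) := by rw [← h]; simp
        rw [Finset.mem_insert, Finset.mem_singleton] at h2
        rcases h2 with h2 | h2
        · exact hmove b hb h2
        · exact hc.2 (h2 ▸ Finset.mem_image.2 ⟨_, Finset.mem_univ _, rfl⟩)
      intro x hx y hy hxy
      refine ⟨⟨a0, ha0⟩, ?_⟩
      rw [Finset.mem_insert, Finset.mem_singleton] at hx hy
      rcases hx with rfl | rfl <;> rcases hy with rfl | rfl
      · exact absurd rfl hxy
      · exact key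
      · rw [Finset.pair_comm, Finset.pair_comm x y]
        exact key
      · exact absurd rfl hxy

end Lett

namespace Fr

variable [Finite G] {T : Subgroup G} {V : Fin 2 → Subgroup G} {v : Fin 2 → G} (D : Fr T V v)

include D

/-- `V i` a block `S_n`, `n ≥ 4`: the elementary abelian subgroups of maximal order of `O` centralise `V i` -/
theorem cent_of {i : Fin 2} {R : Subgroup G} {φ : Finset Ω → G} (L : Lett (V i) R φ) (h4 : 4 ≤ Fintype.card Ω)
    (hT : T ≤ R) (hRC : R ≤ CC v (i + 1)) {p : Ω} (hp : v i = φ (Finset.univ.erase p)) {A : Subgroup G}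
    (hA : Mx (o2 (centralizer (zc T : Set G))) A) : A ≤ centralizer (V i : Set G) := by
  have hVO : V i ≤ o2 (centralizer (zc T : Set G)) := (D.VQ i).trans (D.Q_le_O i)
  refine L.cent (O := o2 (centralizer (zc T : Set G))) (p := p) h4 (o2_isPGroup _) (D.O_le_T.trans hT) ?_ ?_ hA.le
    (hA.thom hVO (D.sqV i))
  · rw [← hp]
    exact (o2_le _).trans (D.cent_zc_le i)
  · intro g hg hgv
    rw [← hp] at hgv
    exact le_normalizer_o2 _ (D.mem_D hgv (hRC hg))

/-- one block is `S_n`: the first alternative of `Fr.ex` -/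
theorem out_of_lett (hML : ML.Final.MLK.{u, u}) (hK : ∀ i, IsKGroup (CC v i)) {i : Fin 2} {R : Subgroup G}
    {φ : Finset Ω → G} (L : Lett (V i) R φ) (h4 : 4 ≤ Fintype.card Ω) (hT : T ≤ R) (hRC : R ≤ CC v (i + 1)) {p : Ω}
    (hp : v i = φ (Finset.univ.erase p)) : ∃ (j : Fin 2) (X B : Subgroup G), Out T V v j X B := by
  rcases D.ex hML hK with h | h
  · exact h
  · obtain ⟨-, -, A, hA, hm⟩ := h i
    exact absurd (D.cent_of L h4 hT hRC hp hA) hm

open Cfsg.Agent.Omega.NO3S.EMany.Low in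
/-- **two blocks, one of them `S_n`, `n ≥ 5`** -/
theorem sysE_of_lett (hML : ML.Final.MLK.{u, u}) (hK : ∀ i, IsKGroup (CC v i)) {i : Fin 2} {R : Subgroup G}
    {φ : Finset Ω → G} (L : Lett (V i) R φ) (h4 : 4 ≤ Fintype.card Ω) (hT : T ≤ R) (hRC : R ≤ CC v (i + 1)) {p : Ω}
    (hp : v i = φ (Finset.univ.erase p)) :
    ∃ (H' : Type u) (_ : Group H') (_ : Finite H') (N : Type u) (_ : Group N) (_ : Finite N)
      (_ : MulDistribMulAction H' N) (T' A' : Subgroup H') (x' y' : N), SysE T' A' x' y' := by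
  obtain ⟨j, X, B, O⟩ := D.out_of_lett hML hK L h4 hT hRC hp
  exact D.exists_sysE hML (hK j) O

end Fr

end Cfsg.Agent.Omega.KL.TwoS

end
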